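import Cfsg.Agent.H576.Ext.Defs

/-!
# Subgroups of `Aut S` with Sylow-cyclic image in `Out S`, if `Out S` is an extension of a group of
order three by a cyclic group (helper212, S4832)
-/

set_option autoImplicit false
set_option linter.unusedSectionVars false

open Cfsg

namespace Cfsg.Agent.H212.Ext

open Cfsg.Agent.H576.Ext

universe u v

variable {S : Type u} [Group S] {C : Type v} [CommGroup C] [IsCyclic C] (ψ : MulAut S →* C)

theorem gen_of_inf {P : Subgroup (MulAut S)} (h : P ⊓ ψ.ker ≤ (MulAut.conj (G := S)).range) :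
    ∃ γ ∈ P, ∀ α ∈ P, ∃ (k : ℤ) (s : S), α = MulAut.conj s * γ ^ k := by
  have hc : IsCyclic (P.map ψ) := inferInstance
  obtain ⟨⟨_, γ, hγ, rfl⟩, hg⟩ := hc.exists_generator
  refine ⟨γ, hγ, fun α hα => ?_⟩
  obtain ⟨k, hk⟩ := hg ⟨ψ α, α, hα, rfl⟩
  have hk' : ψ γ ^ k = ψ α := congrArg Subtype.val hk
  have h1 : α * (γ ^ k)⁻¹ ∈ P ⊓ ψ.ker := by
    refine ⟨P.mul_mem hα (P.inv_mem (P.zpow_mem hγ k)), ?_⟩
    show ψ (α * (γ ^ k)⁻¹) = 1
    rw [map_mul, map_inv, map_zpow, hk', mul_inv_cancel]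
  obtain ⟨s, hs⟩ := h h1
  exact ⟨k, s, by rw [hs, inv_mul_cancel_right]⟩

theorem sylCycIn_of_inf {T : Subgroup (MulAut S)} (h : T ⊓ ψ.ker ≤ (MulAut.conj (G := S)).range) : SylCycIn T :=
  fun _ _ _ hP _ => gen_of_inf ψ ((inf_le_inf_right _ hP).trans h)

variable (h3 : (MulAut.conj (G := S)).range.relIndex ψ.ker = 3)

include h3 in
/-- an element of `D \ Inn` generates `D` modulo `Inn` -/
theorem gen_of_not_mem {γ : MulAut S} (hγ : γ ∈ ψ.ker) (hγ' : γ ∉ (MulAut.conj (G := S)).range) {α : MulAut S}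
    (hα : α ∈ ψ.ker) : ∃ (k : ℤ) (s : S), α = MulAut.conj s * γ ^ k := by
  have hn : ((MulAut.conj (G := S)).range.subgroupOf ψ.ker).Normal := by
    have : (MulAut.conj (G := S)).range.Normal := ⟨fun n hn a => by
      obtain ⟨s, rfl⟩ := hn
      exact ⟨a s, by ext x; simp [MulAut.conj_apply]⟩⟩
    infer_instance
  have h5 : Nat.card (ψ.ker ⧸ (MulAut.conj (G := S)).range.subgroupOf ψ.ker) = 3 := h3
  have hf : Fact (Nat.Prime 3) := ⟨Nat.prime_three⟩
  have h6 := zpowers_eq_top_of_prime_card h5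
    (g := QuotientGroup.mk (s := (MulAut.conj (G := S)).range.subgroupOf ψ.ker) ⟨γ, hγ⟩) (by
      intro h
      rw [QuotientGroup.eq_one_iff, Subgroup.mem_subgroupOf] at h
      exact hγ' h)
  have h7 : (QuotientGroup.mk (s := (MulAut.conj (G := S)).range.subgroupOf ψ.ker) ⟨α, hα⟩) ∈
      Subgroup.zpowers (QuotientGroup.mk (s := (MulAut.conj (G := S)).range.subgroupOf ψ.ker) ⟨γ, hγ⟩) := by
    rw [h6]; trivial
  obtain ⟨k, hk⟩ := h7
  have h8 : (QuotientGroup.mk (s := (MulAut.conj (G := S)).range.subgroupOf ψ.ker) ((⟨γ, hγ⟩ : ψ.ker) ^ k)) =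
      QuotientGroup.mk ⟨α, hα⟩ := hk
  rw [QuotientGroup.eq, Subgroup.mem_subgroupOf] at h8
  obtain ⟨s, hs⟩ := h8
  have hs' : MulAut.conj s = (γ ^ k)⁻¹ * α := hs
  refine ⟨k, (γ ^ k) s, ?_⟩
  have h9 : MulAut.conj ((γ ^ k) s) = γ ^ k * MulAut.conj s * (γ ^ k)⁻¹ := by
    ext x
    simp [MulAut.conj_apply]
  rw [h9, hs']
  group

include h3 in
theorem cyc_of_le {P : Subgroup (MulAut S)} (h : P ≤ ψ.ker) :
    ∃ γ ∈ P, ∀ α ∈ P, ∃ (k : ℤ) (s : S), α = MulAut.conj s * γ ^ k := by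
  by_cases h1 : P ≤ (MulAut.conj (G := S)).range
  · refine ⟨1, P.one_mem, fun α hα => ?_⟩
    obtain ⟨s, hs⟩ := h1 hα
    exact ⟨0, s, by rw [hs, one_zpow, mul_one]⟩
  · rw [SetLike.not_le_iff_exists] at h1
    obtain ⟨γ, hγ, hγ'⟩ := h1
    exact ⟨γ, hγ, fun α hα => gen_of_not_mem ψ h3 (h hγ) hγ' (h hα)⟩

include h3 in
/-- `T` contains no element of `D \ Inn` -/
theorem sylCycIn_one {T : Subgroup (MulAut S)} {δ : MulAut S} (hI : (MulAut.conj (G := S)).range ≤ T)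
    (hδ : δ ∈ ψ.ker) (hδT : δ ∉ T) : SylCycIn T := by
  refine sylCycIn_of_inf ψ ?_
  rintro γ ⟨hγT, hγ⟩
  by_contra hγ'
  obtain ⟨k, s, hk⟩ := gen_of_not_mem ψ h3 hγ hγ' hδ
  apply hδT
  rw [hk]
  exact T.mul_mem (hI ⟨s, rfl⟩) (T.zpow_mem hγT k)

include h3 in
/-- `T` contains `D` but not all automorphisms of order three modulo `D` -/
theorem sylCycIn_two [Finite C] {T : Subgroup (MulAut S)} {δ τ : MulAut S} (hI : (MulAut.conj (G := S)).range ≤ T)
    (hδ : δ ∈ ψ.ker) (hδI : δ ∉ (MulAut.conj (G := S)).range) (hδT : δ ∈ T) (hτ : ψ τ ^ 3 = 1) (hτT : τ ∉ T) :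
    SylCycIn T := by
  have hDT : ψ.ker ≤ T := by
    intro γ hγ
    obtain ⟨k, s, hk⟩ := gen_of_not_mem ψ h3 hδ hδI hγ
    rw [hk]
    exact T.mul_mem (hI ⟨s, rfl⟩) (T.zpow_mem hδT k)
  have hτ1 : ψ τ ≠ 1 := fun h => hτT (hDT h)
  intro ℓ hℓ P hP hP'
  have hfl : Fact ℓ.Prime := ⟨hℓ⟩
  by_cases h : ℓ = 3
  · subst h
    by_cases h1 : P ≤ ψ.ker
    · exact cyc_of_le ψ h3 h1
    exfalso
    rw [SetLike.not_le_iff_exists] at h1
    obtain ⟨x, hx, hx'⟩ := h1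
    obtain ⟨m, hm⟩ := hP' ⟨x, hx⟩
    have hm' : x ^ 3 ^ m = 1 := congrArg Subtype.val hm
    -- an element of order three
    obtain ⟨y, hy, hy1, hy3⟩ : ∃ y ∈ P, ψ y ≠ 1 ∧ ψ y ^ 3 = 1 := by
      have key : ∀ m : ℕ, ∀ x ∈ P, ψ x ≠ 1 → ψ x ^ 3 ^ m = 1 → ∃ y ∈ P, ψ y ≠ 1 ∧ ψ y ^ 3 = 1 := by
        intro m
        induction m with
        | zero =>
          intro x _ h1 h2
          rw [pow_zero, pow_one] at h2
          exact absurd h2 h1
        | succ m ih =>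
          intro x hx h1 h2
          by_cases h4 : ψ x ^ 3 = 1
          · exact ⟨x, hx, h1, h4⟩
          · refine ih (x ^ 3) (P.pow_mem hx 3) (by rwa [map_pow]) ?_
            rw [map_pow, ← pow_mul, ← pow_succ']
            exact h2
      exact key m x hx (fun h => hx' h) (by rw [← map_pow, hm', map_one])
    -- the solutions of `a ^ 3 = 1` form a cyclic group of order three
    classical
    have := Fintype.ofFinite C
    have h5 := IsCyclic.card_pow_eq_one_le (α := C) (n := 3) (by norm_num)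
    have hord : orderOf (ψ y) = 3 := orderOf_eq_prime hy3 hy1
    have h6 : (Subgroup.zpowers (ψ y) : Set C).toFinset ⊆ Finset.univ.filter (fun a : C => a ^ 3 = 1) := by
      intro a ha
      rw [Set.mem_toFinset, SetLike.mem_coe] at ha
      obtain ⟨k, rfl⟩ := ha
      rw [Finset.mem_filter]
      refine ⟨Finset.mem_univ _, ?_⟩
      show (ψ y ^ k) ^ 3 = 1
      rw [← zpow_natCast, ← zpow_mul, mul_comm, zpow_mul, zpow_natCast, hy3, one_zpow]
    have h7 : (Subgroup.zpowers (ψ y) : Set C).toFinset = Finset.univ.filter (fun a : C => a ^ 3 = 1) := by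
      apply Finset.eq_of_subset_of_card_le h6
      refine h5.trans ?_
      rw [Set.toFinset_card, ← Nat.card_eq_fintype_card]
      have : Nat.card ↥(Subgroup.zpowers (ψ y)) = 3 := by rw [Nat.card_zpowers, hord]
      exact this.ge
    have h8 : ψ τ ∈ (Subgroup.zpowers (ψ y) : Set C).toFinset := by
      rw [h7, Finset.mem_filter]
      exact ⟨Finset.mem_univ _, hτ⟩
    rw [Set.mem_toFinset, SetLike.mem_coe] at h8
    obtain ⟨k, hk⟩ := h8
    apply hτT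
    have h9 : τ * (y ^ k)⁻¹ ∈ ψ.ker := by
      have hk' : ψ y ^ k = ψ τ := hk
      rw [MonoidHom.mem_ker, map_mul, map_inv, map_zpow, hk', mul_inv_cancel]
    have h10 := T.mul_mem (hDT h9) (T.zpow_mem (hP hy) k)
    rwa [inv_mul_cancel_right] at h10
  · refine gen_of_inf ψ ?_
    rintro x ⟨hxP, hx⟩
    by_contra hxI
    obtain ⟨m, hm⟩ := hP' ⟨x, hxP⟩
    have hm' : x ^ ℓ ^ m = 1 := congrArg Subtype.val hm
    -- `x ^ 3` is inner
    have hn : (MulAut.conj (G := S)).range.Normal := ⟨fun n hn a => by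
      obtain ⟨s, rfl⟩ := hn
      exact ⟨a s, by ext x; simp [MulAut.conj_apply]⟩⟩
    have h5 : Nat.card (ψ.ker ⧸ (MulAut.conj (G := S)).range.subgroupOf ψ.ker) = 3 := h3
    have h6 : x ^ 3 ∈ (MulAut.conj (G := S)).range := by
      have h7 : (QuotientGroup.mk (s := (MulAut.conj (G := S)).range.subgroupOf ψ.ker) ⟨x, hx⟩) ^ 3 = 1 := by
        rw [← h5]; exact pow_card_eq_one'
      have h8 : (QuotientGroup.mk (s := (MulAut.conj (G := S)).range.subgroupOf ψ.ker) ((⟨x, hx⟩ : ψ.ker) ^ 3)) = 1 := h7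
      rw [QuotientGroup.eq_one_iff, Subgroup.mem_subgroupOf] at h8
      exact h8
    apply hxI
    have hcop : IsCoprime (3 : ℤ) ((ℓ ^ m : ℕ) : ℤ) := by
      rw [show (3 : ℤ) = ((3 : ℕ) : ℤ) from rfl, Nat.isCoprime_iff_coprime]
      exact Nat.Coprime.pow_right _ ((Nat.coprime_primes Nat.prime_three hℓ).2 (Ne.symm h))
    obtain ⟨a, b, hab⟩ := hcop
    have h9 : x = (x ^ 3) ^ a * (x ^ ℓ ^ m) ^ b := by
      rw [← zpow_natCast x 3, ← zpow_natCast x (ℓ ^ m), ← zpow_mul, ← zpow_mul, ← zpow_add]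
      rw [show ((3 : ℕ) : ℤ) * a + ((ℓ ^ m : ℕ) : ℤ) * b = 1 by rw [← hab]; push_cast; ring, zpow_one]
    rw [h9, hm', one_zpow, mul_one]
    exact Subgroup.zpow_mem _ h6 a

end Cfsg.Agent.H212.Ext
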