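import Cfsg.Agent.H664.R1.U3IM

/-!
# Field and diagonal automorphisms of `PSU(3,q)` in the model `S σ` (helper212, S4832)
-/

set_option autoImplicit false
set_option linter.unusedSimpArgs false
set_option linter.unusedSectionVars false

namespace Cfsg.Agent.H212.Ext

open Matrix Cfsg Cfsg.Agent.LieRecognition.PSUThreeSylow Cfsg.Agent.LieClassical.HermBasic
open Cfsg.Agent.H664.R1 Cfsg.Agent.H664.R1.U3

variable {F : Type*} [Field F] {σ : F →+* F} [hσ : Fact (∀ x, σ (σ x) = x)]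

section field

variable (τ : F ≃+* F) (hτ : ∀ x, τ (σ x) = σ (τ x))

theorem Jm_map' : (Jm F).map τ = Jm F := by
  ext i j
  fin_cases i <;> fin_cases j <;> simp [Jm]

include hτ in
theorem map_spec (g : GUJ σ) : ((mat σ g).map τ)ᵀ * Jm F * ((mat σ g).map τ).map σ = Jm F := by
  have h1 : ((mat σ g)ᵀ * Jm F * (mat σ g).map σ).map τ = (Jm F).map τ := by rw [mat_spec g]
  rw [Jm_map'] at h1
  have hm : ∀ M N : Matrix (Fin 3) (Fin 3) F, (M * N).map τ = M.map τ * N.map τ := fun M N =>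
    Matrix.map_mul (f := (τ : F →+* F))
  rw [hm, hm, Jm_map'] at h1
  rw [← Matrix.transpose_map]
  have h2 : ((mat σ g).map τ).map σ = ((mat σ g).map σ).map τ := by
    ext i j
    exact (hτ _).symm
  rw [h2]
  exact h1

/-- field automorphisms of `GUJ` -/
def fG : GUJ σ →* GUJ σ where
  toFun g := mk ((mat σ g).map τ) (map_spec τ hτ g)
  map_one' := by
    apply mat_inj
    rw [mat_mk, mat_one]
    ext i j
    rw [Matrix.map_apply, Matrix.one_apply]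
    split_ifs
    · exact map_one τ
    · exact map_zero τ
  map_mul' g h := by
    apply mat_inj
    rw [mat_mk, mat_mul, mat_mul, mat_mk, mat_mk]
    exact Matrix.map_mul (f := (τ : F →+* F))

theorem mat_fG (g : GUJ σ) : mat σ (fG τ hτ g) = (mat σ g).map τ := rfl

include hτ in
theorem symm_comm : ∀ x, τ.symm (σ x) = σ (τ.symm x) := by
  intro x
  apply τ.injective
  rw [τ.apply_symm_apply, hτ, τ.apply_symm_apply]

/-- field automorphisms of `GUJ` -/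
def fGe : GUJ σ ≃* GUJ σ :=
  { fG τ hτ with
    invFun := fG τ.symm (symm_comm τ hτ)
    left_inv := fun g => by
      apply mat_inj
      show ((mat σ g).map τ).map τ.symm = mat σ g
      ext i j
      exact τ.symm_apply_apply _
    right_inv := fun g => by
      apply mat_inj
      show ((mat σ g).map τ.symm).map τ = mat σ g
      ext i j
      exact τ.apply_symm_apply _ }

theorem fGe_apply (g : GUJ σ) : fGe τ hτ g = fG τ hτ g := rfl

theorem fGe_symm_apply (g : GUJ σ) : (fGe τ hτ).symm g = fG τ.symm (symm_comm τ hτ) g := rfl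

theorem fG_mem_Up {g : GUJ σ} (h : g ∈ Bo σ) : fG τ hτ g ∈ Bo σ := by
  obtain ⟨h1, h2, h3⟩ := h
  refine ⟨?_, ?_, ?_⟩ <;> rw [mat_fG, Matrix.map_apply] <;> simp [h1, h2, h3]

theorem fG_mem_Un {g : GUJ σ} (h : g ∈ Un σ) : fG τ hτ g ∈ Un σ := by
  obtain ⟨h0, h1, h2, h3⟩ := h
  refine ⟨fG_mem_Up τ hτ h0, ?_, ?_, ?_⟩ <;> rw [mat_fG, Matrix.map_apply] <;> simp [h1, h2, h3]

theorem fG_mem_To {g : GUJ σ} (h : g ∈ To σ) : fG τ hτ g ∈ To σ := by
  obtain ⟨h0, h1, h2, h3⟩ := h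
  refine ⟨fG_mem_Up τ hτ h0, ?_, ?_, ?_⟩ <;> rw [mat_fG, Matrix.map_apply] <;> simp [h1, h2, h3]

theorem fG_mem_Sc {g : GUJ σ} (h : g ∈ Sc σ) : fG τ hτ g ∈ Sc σ := by
  obtain ⟨h0, h1, h2⟩ := h
  refine ⟨fG_mem_To τ hτ h0, ?_, ?_⟩ <;> rw [mat_fG, Matrix.map_apply, Matrix.map_apply]
  · rw [h1]
  · rw [h2]

theorem fG_mem_SUs {g : GUJ σ} (h : g ∈ SUs σ) : fG τ hτ g ∈ SUs σ := by
  rw [mem_SUs] at h ⊢
  rw [mat_fG]
  have h1 : ((mat σ g).map τ).det = τ (mat σ g).det := ((τ : F →+* F).map_det _).symm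
  rw [h1, h, map_one]

theorem fG_dg (t s : F) (ht : t ≠ 0) (hs : s * σ s = 1) :
    fG τ hτ (dg t s ht hs) = dg (τ t) (τ s) ((map_ne_zero τ).2 ht) (by rw [← hτ, ← map_mul, hs, map_one]) := by
  apply mat_inj
  rw [mat_fG, mat_dg, mat_dg]
  ext i j
  fin_cases i <;> fin_cases j <;> simp [hτ]

theorem map_Sc : (Sc σ).map (fGe τ hτ : GUJ σ →* GUJ σ) = Sc σ := by
  apply le_antisymm
  · rintro _ ⟨g, hg, rfl⟩
    exact fG_mem_Sc τ hτ hg
  · intro g hg
    exact ⟨(fGe τ hτ).symm g, fG_mem_Sc _ (symm_comm τ hτ) hg, (fGe τ hτ).apply_symm_apply g⟩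

/-- field automorphisms of `PG` -/
def fP : PG σ ≃* PG σ := QuotientGroup.congr (Sc σ) (Sc σ) (fGe τ hτ) (map_Sc τ hτ)

theorem fP_pr (g : GUJ σ) : fP τ hτ (pr σ g) = pr σ (fG τ hτ g) := rfl

theorem map_S : (S σ).map (fP τ hτ : PG σ →* PG σ) = S σ := by
  apply le_antisymm
  · rintro _ ⟨_, ⟨g, hg, rfl⟩, rfl⟩
    exact ⟨_, fG_mem_SUs τ hτ hg, rfl⟩
  · rintro _ ⟨g, hg, rfl⟩
    refine ⟨pr σ ((fGe τ hτ).symm g), ⟨_, fG_mem_SUs _ (symm_comm τ hτ) hg, rfl⟩, ?_⟩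
    show pr σ (fGe τ hτ ((fGe τ hτ).symm g)) = _
    rw [(fGe τ hτ).apply_symm_apply]

/-- field automorphisms of `S` -/
def fS : MulAut (S σ) := ((fP τ hτ).subgroupMap (S σ)).trans (MulEquiv.subgroupCongr (map_S τ hτ))

theorem coe_fS (x : S σ) : ((fS τ hτ x : S σ) : PG σ) = fP τ hτ x := rfl

end field

section conj

/-- conjugation by the elements of `PG` -/
def cS : PG σ →* MulAut (S σ) := MulAut.conjNormal

theorem coe_cS (g : PG σ) (x : S σ) : ((cS g x : S σ) : PG σ) = g * x * g⁻¹ := rfl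

theorem cS_coe (g : S σ) : cS (g : PG σ) = MulAut.conj g := by
  ext x
  rfl

theorem fS_conj (τ : F ≃+* F) (hτ : ∀ x, τ (σ x) = σ (τ x)) (g : PG σ) :
    fS τ hτ * cS g * (fS τ hτ)⁻¹ = cS (fP τ hτ g) := by
  rw [mul_inv_eq_iff_eq_mul]
  apply MulEquiv.ext
  intro x
  apply Subtype.ext
  show fP τ hτ (g * x * g⁻¹) = fP τ hτ g * fP τ hτ x * (fP τ hτ g)⁻¹
  rw [map_mul, map_mul, map_inv]

/-- `σ` as an automorphism -/
def sigE (σ : F →+* F) [hσ : Fact (∀ x, σ (σ x) = x)] : F ≃+* F :=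
  { σ with
    invFun := σ
    left_inv := hσ.out
    right_inv := hσ.out }

theorem sigE_apply (x : F) : sigE σ x = σ x := rfl

theorem sigE_comm (x : F) : sigE σ (σ x) = σ (sigE σ x) := rfl

/-- the element `diag (1, s, 1)` -/
def g0 (s : F) (hs : s * σ s = 1) : PG σ := pr σ (dg 1 s one_ne_zero hs)

theorem g0_inv (s : F) (hs : s * σ s = 1) : fP (sigE σ) sigE_comm (g0 s hs) = (g0 s hs)⁻¹ := by
  rw [g0, fP_pr, ← map_inv]
  congr 1
  rw [eq_inv_iff_mul_eq_one]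
  apply mat_inj
  rw [mat_mul, mat_fG, mat_dg, mat_one]
  ext i j
  fin_cases i <;> fin_cases j <;> simp [Matrix.mul_apply, Fin.sum_univ_three, sigE_apply]
  rw [mul_comm]; exact hs

/-- `diag (1, s, 1)³ ∈ S` -/
theorem g0_cube (s : F) (hs : s * σ s = 1) : g0 s hs ^ 3 ∈ S σ := by
  have hs0 : s ≠ 0 := left_ne_zero_of_mul_eq_one hs
  have hσs : σ s = s⁻¹ := eq_inv_of_mul_eq_one_right hs
  have hs' : s⁻¹ * σ s⁻¹ = 1 := by rw [map_inv₀, ← mul_inv, hs, inv_one]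
  have h2 : s ^ 2 * σ (s ^ 2) = 1 := by rw [map_pow, ← mul_pow, hs, one_pow]
  refine ⟨dg s⁻¹ (s ^ 2) (inv_ne_zero hs0) h2, ?_, ?_⟩
  · show (mat σ _).det = 1
    rw [mat_dg, Matrix.det_fin_three]
    simp [hσs]
    field_simp
  · rw [g0, ← map_pow]
    refine (QuotientGroup.eq (s := Sc σ)).2 ?_
    have h1 : (dg s⁻¹ (s ^ 2) (inv_ne_zero hs0) h2)⁻¹ * dg 1 s one_ne_zero hs ^ 3 =
        dg s s hs0 hs := by
      rw [inv_mul_eq_iff_eq_mul]
      apply mat_inj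
      rw [pow_succ, pow_two, mat_mul, mat_mul, mat_mul, mat_dg, mat_dg, mat_dg]
      ext i j
      fin_cases i <;> fin_cases j <;> simp [Matrix.mul_apply, Fin.sum_univ_three, hσs, hs0, pow_succ]
    rw [h1]
    refine ⟨dg_mem _ _ _ _, rfl, ?_⟩
    rw [mat_dg]
    show s = (σ s)⁻¹
    rw [hσs, inv_inv]

end conj

end Cfsg.Agent.H212.Ext
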