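import Cfsg.Agent.H212.Ext.U3Non

/-!
# `PSU(3,q)`, `q = q₀³`: a principal series character which is not invariant under the field automorphism
of order three (helper212, S4832)
-/

set_option autoImplicit false
set_option linter.unusedSimpArgs false
set_option linter.unusedSectionVars false

namespace Cfsg.Agent.H212.Ext

open Matrix Cfsg Cfsg.Agent.LieRecognition.PSUThreeSylow Cfsg.Agent.LieClassical.HermBasic
open Cfsg.Agent.H664.R1 Cfsg.Agent.H664.R1.U3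
open Cfsg.Agent.Characters.Core

section general

variable {F : Type*} [Field F] {σ : F →+* F} [hσ : Fact (∀ x, σ (σ x) = x)]

/-- the elements of the torus of `S` -/
def tS (y : Fˣ) : S σ :=
  ⟨pr σ (dg (y : F) (σ y / y) y.ne_zero (dgS_rel y.ne_zero)), _, dgS_mem _ y.ne_zero (dgS_rel y.ne_zero), rfl⟩

theorem tS_mem (y : Fˣ) : tS (σ := σ) y ∈ (spS σ).T := ⟨_, dg_mem _ _ _ _, rfl⟩

theorem fS_tS (τ : F ≃+* F) (hτ : ∀ x, τ (σ x) = σ (τ x)) (y z : Fˣ) (hz : (z : F) = τ y) :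
    fS τ hτ (tS y) = tS z := by
  apply Subtype.ext
  rw [coe_fS]
  show fP τ hτ (pr σ (dg (y : F) (σ y / y) _ _)) = pr σ (dg (z : F) (σ z / z) _ _)
  rw [fP_pr, fG_dg]
  congr 1
  apply mat_inj
  rw [mat_dg, mat_dg, map_div₀, hτ, hz]

theorem tS_reg {y : Fˣ} (hN : (y : F) * σ y ≠ 1) (u : S σ) (hu : u ∈ (spS σ).U)
    (h : u⁻¹ * tS y * u ∈ (spS σ).T) : u = 1 := by
  have h1 : u⁻¹ * (tS y * u * (tS y)⁻¹) ∈ (spS σ).U :=
    (spS σ).U.mul_mem ((spS σ).U.inv_mem hu) ((spS σ).nU _ ((spS σ).TB (tS_mem y)) u hu)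
  have h2 : u⁻¹ * (tS y * u * (tS y)⁻¹) ∈ (spS σ).T := by
    have := (spS σ).T.mul_mem h ((spS σ).T.inv_mem (tS_mem (σ := σ) y))
    have e : u⁻¹ * tS y * u * (tS y)⁻¹ = u⁻¹ * (tS y * u * (tS y)⁻¹) := by group
    rwa [e] at this
  have h3 := (spS σ).disj _ h1 h2
  rw [inv_mul_eq_one] at h3
  obtain ⟨u, huS⟩ := u
  have hu' : u ∈ (Un σ).map (pr σ) := hu
  obtain ⟨v, hv, rfl⟩ := hu'
  obtain ⟨a, b, hab, rfl⟩ := exists_un hv
  have hrel := dgS_rel (σ := σ) y.ne_zero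
  have h8 : pr σ (dg (y : F) (σ y / y) y.ne_zero hrel) * pr σ (un a b hab) *
      (pr σ (dg (y : F) (σ y / y) y.ne_zero hrel))⁻¹ = pr σ (un a b hab) := (congrArg Subtype.val h3).symm
  rw [← map_inv, ← map_mul, ← map_mul,
    dg_conj_un (y : F) (σ y / y) y.ne_zero hrel a b hab (conj_rel hrel hab)] at h8
  have h9 := pr_eq_of_Un (un_mem _ _ _) (un_mem _ _ _) h8
  have h10 := congrFun (congrFun (congrArg (mat σ) h9) 0) 1
  have h11 := congrFun (congrFun (congrArg (mat σ) h9) 0) 2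
  rw [mat_un, mat_un] at h10 h11
  have e1 : (y : F) * σ (σ y / y) * a = a := by simpa using h10
  have e2 : (y : F) * σ y * b = b := by simpa using h11
  have hb : b = 0 := by
    have : ((y : F) * σ y - 1) * b = 0 := by linear_combination e2
    exact (mul_eq_zero.1 this).resolve_left (sub_ne_zero.2 hN)
  have hσy : σ (y : F) ≠ 0 := (map_ne_zero σ).2 y.ne_zero
  have ha : a = 0 := by
    by_contra ha
    have e3 : (y : F) * σ (σ y / y) = 1 := by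
      have : ((y : F) * σ (σ y / y) - 1) * a = 0 := by linear_combination e1
      exact sub_eq_zero.1 ((mul_eq_zero.1 this).resolve_right ha)
    rw [map_div₀, hσ.out] at e3
    have e4 : (y : F) * y = σ y := by
      field_simp at e3
      linear_combination e3
    have e5 : σ (y : F) * σ y = y := by
      have := congrArg σ e4
      rwa [map_mul, hσ.out] at this
    apply hN
    have e6 : (y : F) * σ y * ((y : F) * σ y - 1) = 0 := by
      linear_combination σ (y : F) * σ y * e4 + σ (y : F) * e5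
    exact sub_eq_zero.1 ((mul_eq_zero.1 e6).resolve_left (mul_ne_zero y.ne_zero hσy))
  subst ha
  subst hb
  apply Subtype.ext
  show pr σ (un 0 0 hab) = 1
  rw [← map_one (pr σ)]
  congr 1
  apply mat_inj
  rw [mat_un, mat_one]
  ext i j
  fin_cases i <;> fin_cases j <;> simp

end general

section finite

variable {F : Type*} [Field F] [Fintype F] {q : ℕ} {σ : F →+* F} [hσ : Fact (∀ x, σ (σ x) = x)]

/-- the values of the principal series on the torus -/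
theorem ps_tS [Fintype (S σ)] (hs : ∀ x, σ x = x ^ q) {lam : Fˣ →* ℂˣ} {f : (spS σ).B →* ℂˣ}
    (hf : ∀ (t s : F) (ht : t ≠ 0) (hs : s * σ s = 1)
      (h : pr σ (dg t s ht hs) ∈ S σ) (h' : (⟨_, h⟩ : S σ) ∈ (spS σ).B),
      f ⟨⟨_, h⟩, h'⟩ = lam (Units.mk0 (t * σ s) (mul_ne_zero ht ((map_ne_zero σ).2
        (left_ne_zero_of_mul_eq_one hs))))) (y : Fˣ) :
    f ⟨tS y, (spS σ).TB (tS_mem y)⟩ = lam (y ^ 2 * (y ^ q)⁻¹) ∧
      f ⟨(spS σ).w⁻¹ * tS y * (spS σ).w, (spS σ).TB ((spS σ).wT _ (tS_mem y))⟩ = lam (y * (y ^ (2 * q))⁻¹) := by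
  have hrel := dgS_rel (σ := σ) y.ne_zero
  have h0 : σ (y : F) ≠ 0 := (map_ne_zero σ).2 y.ne_zero
  have hmem : pr σ (dg (y : F) (σ y / y) y.ne_zero hrel) ∈ S σ := ⟨_, dgS_mem _ y.ne_zero hrel, rfl⟩
  have hT : (⟨_, hmem⟩ : S σ) ∈ (spS σ).T := ⟨_, dg_mem _ _ _ _, rfl⟩
  have hy0 := y.ne_zero
  constructor
  · refine (hf (y : F) (σ y / y) y.ne_zero hrel hmem ((spS σ).TB hT)).trans ?_
    congr 1
    apply Units.ext
    rw [Units.val_mk0, map_div₀, hσ.out, hs]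
    simp only [Units.val_mul, Units.val_pow_eq_pow_val, Units.val_inv_eq_inv_val]
    field_simp
  · have e2 : ((spS σ).w⁻¹ * ⟨_, hmem⟩ * (spS σ).w : S σ) =
        ⟨pr σ (dg (σ (y : F))⁻¹ (σ y / y) (inv_ne_zero h0) hrel), by
          rw [← w_conj_S (y : F) (σ y / y) y.ne_zero hrel hmem]
          exact ((spS σ).w⁻¹ * ⟨_, hmem⟩ * (spS σ).w).2⟩ :=
      Subtype.ext (w_conj_S (y : F) (σ y / y) y.ne_zero hrel hmem)
    have e3 : f ⟨(spS σ).w⁻¹ * ⟨_, hmem⟩ * (spS σ).w, (spS σ).TB ((spS σ).wT _ hT)⟩ =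
        lam (Units.mk0 ((σ (y : F))⁻¹ * σ (σ y / y)) (mul_ne_zero (inv_ne_zero h0) ((map_ne_zero σ).2
          (left_ne_zero_of_mul_eq_one hrel)))) := by
      rw [← hf (σ (y : F))⁻¹ (σ y / y) (inv_ne_zero h0) hrel (by
          rw [← w_conj_S (y : F) (σ y / y) y.ne_zero hrel hmem]
          exact ((spS σ).w⁻¹ * ⟨_, hmem⟩ * (spS σ).w).2) ⟨_, (dg_mem _ _ _ _).1, rfl⟩]
      congr 1
      exact Subtype.ext e2
    refine e3.trans ?_
    congr 1
    apply Units.ext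
    rw [Units.val_mk0, map_div₀, hσ.out, hs]
    simp only [Units.val_mul, Units.val_pow_eq_pow_val, Units.val_inv_eq_inv_val]
    field_simp
    ring

theorem unit_conj (z : ℂˣ) {n : ℕ} (hn : n ≠ 0) (h : z ^ n = 1) : (z : ℂ) * (starRingEnd ℂ) z = 1 := by
  have h1 : (z : ℂ) ^ n = 1 := by rw [← Units.val_pow_eq_pow_val, h, Units.val_one]
  have h2 : ‖(z : ℂ)‖ = 1 := Complex.norm_eq_one_of_pow_eq_one h1 hn
  rw [Complex.mul_conj, Complex.normSq_eq_norm_sq, h2]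
  simp

/-- **a principal series character which is not invariant under the field automorphism of order three** -/
theorem exists_ps (hF : Fintype.card F = q ^ 2) {q₀ : ℕ} (hq₀ : 2 ≤ q₀) (hq : q = q₀ ^ 3) (hs : ∀ x, σ x = x ^ q)
    (τ : F ≃+* F) (hτ : ∀ x, τ (σ x) = σ (τ x)) (hτ' : ∀ x, τ x = x ^ q₀ ^ 2) :
    ∃ θ : S σ → ℂ, IsIrrCharacter (S σ) θ ∧ charDegree θ = q ^ 3 + 1 ∧
      (∀ g ∈ (spP σ).T, ∀ x, θ (cS g x) = θ x) ∧ ∃ x, θ (fS τ hτ x) ≠ θ x := by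
  classical
  have : Finite (PG σ) := inferInstance
  have := Fintype.ofFinite (PG σ)
  have := Fintype.ofFinite (S σ)
  obtain ⟨lam, hlam⟩ := exists_faithful Fˣ
  obtain ⟨f, hfU, hf⟩ := exists_lin (σ := σ) lam
  obtain ⟨γ, hγ⟩ := IsCyclic.exists_generator (α := Fˣ)
  have ho := order_gen hF hγ
  have h8 : 8 ≤ q := by
    rw [hq]
    calc 8 = 2 ^ 3 := by norm_num
      _ ≤ q₀ ^ 3 := Nat.pow_le_pow_left hq₀ 3
  -- numbers
  obtain ⟨m, hm⟩ : ∃ m, q = m + 1 := ⟨q - 1, by omega⟩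
  have hN : (q + 1) * (q - 1) = q * q - 1 := by
    rw [hm, Nat.add_sub_cancel, eq_comm, Nat.sub_eq_iff_eq_add (by nlinarith)]
    ring
  have hγN : γ ^ (q * q - 1) = 1 := by rw [← hN, ← ho, pow_orderOf_eq_one]
  have hγq : γ ^ (q * q) = γ := by
    have : q * q = (q * q - 1) + 1 := by
      have : 1 ≤ q * q := by nlinarith
      omega
    rw [this, pow_succ, hγN, one_mul]
  obtain ⟨y, hy⟩ : ∃ y, y = γ ^ (q + 2) := ⟨_, rfl⟩
  have hk : y ^ 2 * (y ^ q)⁻¹ = γ ^ 3 := by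
    rw [mul_inv_eq_iff_eq_mul, hy, ← pow_mul, ← pow_mul, ← pow_add]
    have e1 : 3 + (q + 2) * q = q * q + (2 * q + 3) := by ring
    rw [e1, pow_add, hγq, ← pow_succ']
    congr 1
    ring
  have hk' : y * (y ^ (2 * q))⁻¹ = (γ ^ (3 * q))⁻¹ := by
    rw [mul_inv_eq_iff_eq_mul, eq_inv_mul_iff_mul_eq, hy, ← pow_mul, ← pow_add]
    have e1 : (q + 2) * (2 * q) = q * q * 2 + 4 * q := by ring
    rw [e1, pow_add γ (q * q * 2), pow_mul γ (q * q) 2, hγq, ← pow_add]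
    congr 1
    ring
  have hNy : (y : F) * σ y ≠ 1 := by
    intro h
    have h1 : y ^ (q + 1) = 1 := by
      apply Units.ext
      rw [Units.val_pow_eq_pow_val, pow_succ', Units.val_one, ← h, hs]
    rw [hy, ← pow_mul] at h1
    have e1 : (q + 2) * (q + 1) = q * q + (3 * q + 2) := by ring
    rw [e1, pow_add, hγq, ← pow_succ'] at h1
    refine gen_pow_ne hF hγ (m := 3 * q + 2 + 1) (by omega) ?_ h1
    rw [hN]
    have : 8 * q ≤ q * q := Nat.mul_le_mul_right q h8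
    omega
  -- the image under `τ`
  obtain ⟨z, hz⟩ : ∃ z, z = y ^ q₀ ^ 2 := ⟨_, rfl⟩
  have hzτ : (z : F) = τ y := by rw [hz, Units.val_pow_eq_pow_val, hτ']
  have hNz : (z : F) * σ z ≠ 1 := by
    rw [hzτ, ← hτ, ← map_mul]
    intro h
    exact hNy (τ.injective (h.trans (map_one τ).symm))
  obtain ⟨fy, fy'⟩ := ps_tS hs hf y
  obtain ⟨fz, fz'⟩ := ps_tS hs hf z
  have hirr : IsIrrCharacter (S σ) ((spS σ).ps f) := by
    refine (spS σ).isIrr_ps f ⟨tS y, tS_mem y, ?_⟩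
    rw [fy, fy']
    intro h
    have h1 := hlam h
    rw [hk, hk', eq_inv_iff_mul_eq_one, ← pow_add] at h1
    refine gen_pow_ne hF hγ (by omega) ?_ h1
    rw [hN]
    have : 8 * q ≤ q * q := Nat.mul_le_mul_right q h8
    omega
  refine ⟨(spS σ).ps f, hirr, ?_, ?_, tS y, ?_⟩
  · show ⌊((spS σ).ps f 1).re⌋₊ = _
    rw [(spS σ).ps_one, card_US hF hs]
    have : (((q ^ 3 : ℕ) : ℂ) + 1) = ((q ^ 3 + 1 : ℕ) : ℂ) := by push_cast; ring
    rw [this, Complex.natCast_re, Nat.floor_natCast]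
  · intro g hg
    exact ps_aut (spS σ) f (cS g) (cS_B hg) (cS_B' hg) (cS_f hg f hfU)
  · rw [fS_tS τ hτ y z hzτ, ps_T (spS σ) f (tS_mem z) (tS_reg hNz), ps_T (spS σ) f (tS_mem y) (tS_reg hNy),
      fy, fy', fz, fz', hk, hk']
    have hkz : z ^ 2 * (z ^ q)⁻¹ = (γ ^ 3) ^ q₀ ^ 2 := by
      rw [← hk, hz, mul_pow, _root_.inv_pow, ← pow_mul, ← pow_mul, ← pow_mul, ← pow_mul, mul_comm 2, mul_comm q]
    have hkz' : z * (z ^ (2 * q))⁻¹ = ((γ ^ (3 * q))⁻¹) ^ q₀ ^ 2 := by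
      rw [← hk', hz, mul_pow, _root_.inv_pow, ← pow_mul, ← pow_mul, mul_comm (2 * q)]
    rw [hkz, hkz']
    have hcard : Nat.card Fˣ ≠ 0 := Nat.card_pos.ne'
    have hunit : ∀ u : Fˣ, (lam u : ℂ) * (starRingEnd ℂ) (lam u) = 1 := by
      intro u
      refine unit_conj _ hcard ?_
      rw [← map_pow, pow_card_eq_one', map_one]
    intro h
    rcases sum_unit (hunit _) (hunit _) (hunit _) (hunit _) h.symm with h1 | h1 | h1
    · -- sum zero
      have h2 : (lam (γ ^ 3) : ℂ) ^ 2 = (lam (γ ^ (3 * q))⁻¹ : ℂ) ^ 2 := by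
        linear_combination ((lam (γ ^ 3) : ℂ) - (lam (γ ^ (3 * q))⁻¹ : ℂ)) * h1
      have h3 : lam ((γ ^ 3) ^ 2) = lam (((γ ^ (3 * q))⁻¹) ^ 2) := by
        rw [map_pow lam (γ ^ 3) 2, map_pow lam (γ ^ (3 * q))⁻¹ 2]
        apply Units.ext
        rw [Units.val_pow_eq_pow_val, Units.val_pow_eq_pow_val]
        exact h2
      have h4 := hlam h3
      rw [_root_.inv_pow, eq_inv_iff_mul_eq_one, ← pow_mul, ← pow_mul, ← pow_add] at h4
      refine gen_pow_ne hF hγ (by omega) ?_ h4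
      rw [hN]
      have : 8 * q ≤ q * q := Nat.mul_le_mul_right q h8
      omega
    · have h2 := hlam (Units.ext h1)
      rw [← pow_mul] at h2
      have hq2 : 4 ≤ q₀ ^ 2 := by nlinarith
      have h3 : γ ^ (3 * q₀ ^ 2 - 3) = 1 := by
        have : γ ^ (3 * q₀ ^ 2 - 3) * γ ^ 3 = 1 * γ ^ 3 := by
          rw [← pow_add, Nat.sub_add_cancel (by omega), one_mul, ← h2]
        exact mul_right_cancel this
      refine gen_pow_ne hF hγ (by omega) ?_ h3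
      rw [hN, hq]
      have h4 : 8 ≤ q₀ ^ 3 := by rw [← hq]; exact h8
      have h5 : q₀ ^ 3 * q₀ ^ 3 = q₀ ^ 2 * (q₀ ^ 4) := by ring
      have h6 : 16 ≤ q₀ ^ 4 := by
        calc 16 = 2 ^ 4 := by norm_num
          _ ≤ q₀ ^ 4 := Nat.pow_le_pow_left hq₀ 4
      rw [h5]
      have h7 : q₀ ^ 2 * 16 ≤ q₀ ^ 2 * q₀ ^ 4 := Nat.mul_le_mul_left _ h6
      omega
    · have h2 := hlam (Units.ext h1)
      rw [_root_.inv_pow, eq_inv_iff_mul_eq_one, ← pow_mul, ← pow_add] at h2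
      have h3 : γ ^ (3 * q + 3 * q₀ ^ 2) = 1 := by
        have h4 : (γ ^ (3 + 3 * q * q₀ ^ 2)) ^ q = 1 := by rw [h2, one_pow]
        rw [← pow_mul] at h4
        have e1 : (3 + 3 * q * q₀ ^ 2) * q = 3 * q + q * q * (3 * q₀ ^ 2) := by ring
        rw [e1, pow_add, pow_mul γ (q * q), hγq, ← pow_add] at h4
        exact h4
      refine gen_pow_ne hF hγ (by omega) ?_ h3
      rw [hN, hq]
      have h5 : q₀ ^ 3 * q₀ ^ 3 = q₀ ^ 2 * (q₀ ^ 4) := by ring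
      have h6 : q₀ ^ 3 = q₀ ^ 2 * q₀ := by ring
      have h7 : q₀ ^ 2 * (4 * q₀ ^ 2) ≤ q₀ ^ 2 * q₀ ^ 4 := by
        apply Nat.mul_le_mul_left
        have : q₀ ^ 4 = q₀ ^ 2 * q₀ ^ 2 := by ring
        rw [this]
        apply Nat.mul_le_mul_right
        nlinarith
      have h9 : 4 ≤ q₀ ^ 2 := by nlinarith
      -- `3 q₀ + 3 < 4 q₀²`
      have h10 : 3 * q₀ + 4 ≤ 4 * q₀ ^ 2 := by nlinarith
      have h11 : q₀ ^ 2 * (3 * q₀ + 4) ≤ q₀ ^ 2 * (4 * q₀ ^ 2) := Nat.mul_le_mul_left _ h10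
      have h12 : q₀ ^ 2 * (3 * q₀ + 4) = 3 * (q₀ ^ 2 * q₀) + 4 * q₀ ^ 2 := by ring
      rw [h5, h6]
      omega

end finite

end Cfsg.Agent.H212.Ext
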